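import Cfsg.Agent.H752.TF.Co
import Cfsg.Agent.H745.TF.EssStmts

/-!
# S5262, ESS3 part (B): no essential subgroup `R` with `Y ≤ R ≤ N3`, `A37 ≰ R` (helper587)
-/

set_option autoImplicit false
set_option linter.unusedVariables false
set_option linter.unusedSimpArgs false
set_option linter.style.haveILetI false
set_option linter.unusedSectionVars false

namespace Cfsg.Agent.H587.TF

open Cfsg Cfsg.FusionSystem Cfsg.Agent.H756.PU
open Cfsg.Agent.Octagon.Pkg Cfsg.Agent.H745.TF Cfsg.Agent.H752.TF Cfsg.Agent.H802.TE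

universe u v

section

variable {K : Type u} [Field K] {σ : K →+* K} {m : ℕ} (hK : HypK σ m)
variable {U : Type v} [Group U] (T : TF σ U)

/-- the commutator in `N3`, in coordinates -/
def cmm (σ : K →+* K) (c d : Cd K) : Cd K :=
  ⟨0, 0, 0, 0, 0,
    c.a4 * σ d.a4 + d.a4 * σ c.a4 + c.a6 * d.a3 + d.a6 * c.a3 + c.a7 * d.b2 + d.a7 * c.b2 + c.b8 * σ d.b2 + d.b8 * σ c.b2,
    c.a6 * d.a4 + d.a6 * c.a4 + c.b8 * d.b2 + d.b8 * c.b2, 0,
    c.a6 * σ d.a6 + d.a6 * σ c.a6 + c.a7 * d.a4 + d.a7 * c.a4 + σ c.b8 * d.b2 + σ d.b8 * c.b2 + c.b8 * d.a3 + d.b8 * c.a3,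
    0, 0, 0⟩

include hK

theorem comm_N3 {g h : U} (hg : g ∈ T.N3) (hh : h ∈ T.N3) :
    co T (g * h * g⁻¹ * h⁻¹) = cmm σ (co T g) (co T h) := by
  have key : g * h = T.el (cmm σ (co T g) (co T h)) * (h * g) := by
    refine co_injective T ?_
    rw [co_mul hK, co_mul hK, co_mul hK, co_el]
    rw [mem_N3 hK] at hg hh
    generalize co T g = c at hg ⊢
    generalize co T h = d at hh ⊢
    obtain ⟨c1, c2, c3⟩ := hg
    obtain ⟨d1, d2, d3⟩ := hh
    have h2 : (2 : K) = 0 := hK.two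
    ext
    · rw [mul_a1, mul_a1, mul_a1]
      simp only [cmm, c1, c2, c3, d1, d2, d3, zero_mul, mul_zero, add_zero, zero_add, map_zero]
    · rw [mul_a2, mul_a2, mul_a2]
      simp only [mul_a1, mul_a2, mul_a8, cmm, c1, c2, c3, d1, d2, d3, zero_mul, mul_zero, add_zero, zero_add, map_zero]
    · rw [mul_b2, mul_b2, mul_b2]
      simp only [mul_a1, mul_a2, mul_a8, cmm, c1, c2, c3, d1, d2, d3, zero_mul, mul_zero, add_zero, zero_add, map_zero]
      ring
    · rw [mul_a3, mul_a3, mul_a3]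
      simp only [mul_a1, mul_a2, mul_a8, cmm, c1, c2, c3, d1, d2, d3, zero_mul, mul_zero, add_zero, zero_add, map_zero,
        ne_eq, OfNat.ofNat_ne_zero, not_false_eq_true, zero_pow]
      ring
    · rw [mul_a4, mul_a4, mul_a4]
      simp only [mul_a1, mul_a2, mul_a8, cmm, c1, c2, c3, d1, d2, d3, zero_mul, mul_zero, add_zero, zero_add, map_zero]
      ring
    · rw [mul_b4, mul_b4, mul_b4]
      simp only [mul_a1, mul_a2, mul_a8, cmm, c1, c2, c3, d1, d2, d3, zero_mul, mul_zero, add_zero, zero_add, map_zero,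
        ne_eq, OfNat.ofNat_ne_zero, not_false_eq_true, zero_pow]
      linear_combination (-(d.a4 * σ c.a4 + d.a6 * c.a3 + d.a7 * c.b2 + d.b8 * σ c.b2)) * h2
    · rw [mul_a5, mul_a5, mul_a5]
      simp only [mul_a1, mul_a2, mul_a8, cmm, c1, c2, c3, d1, d2, d3, zero_mul, mul_zero, add_zero, zero_add, map_zero,
        ne_eq, OfNat.ofNat_ne_zero, not_false_eq_true, zero_pow]
      linear_combination (-(d.a6 * c.a4 + d.b8 * c.b2)) * h2
    · rw [mul_a6, mul_a6, mul_a6]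
      simp only [mul_a1, mul_a2, mul_a8, cmm, c1, c2, c3, d1, d2, d3, zero_mul, mul_zero, add_zero, zero_add, map_zero]
      ring
    · rw [mul_b6, mul_b6, mul_b6]
      simp only [mul_a1, mul_a2, mul_a8, cmm, c1, c2, c3, d1, d2, d3, zero_mul, mul_zero, add_zero, zero_add, map_zero,
        ne_eq, OfNat.ofNat_ne_zero, not_false_eq_true, zero_pow]
      linear_combination (-(d.a6 * σ c.a6 + d.a7 * c.a4 + σ d.b8 * c.b2 + d.b8 * c.a3)) * h2
    · rw [mul_a7, mul_a7, mul_a7]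
      simp only [mul_a1, mul_a2, mul_a8, cmm, c1, c2, c3, d1, d2, d3, zero_mul, mul_zero, add_zero, zero_add, map_zero,
        ne_eq, OfNat.ofNat_ne_zero, not_false_eq_true, zero_pow]
      ring
    · rw [mul_a8, mul_a8, mul_a8]
      simp only [cmm, c1, c2, c3, d1, d2, d3, zero_mul, mul_zero, add_zero, zero_add, map_zero]
    · rw [mul_b8, mul_b8, mul_b8]
      simp only [mul_a1, mul_a2, mul_a8, cmm, c1, c2, c3, d1, d2, d3, zero_mul, mul_zero, add_zero, zero_add, map_zero]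
      ring
  rw [key, mul_assoc, mul_assoc]
  have : h * g * (g⁻¹ * h⁻¹) = 1 := by group
  rw [this, mul_one, co_el]

theorem comm_N3_Y {g h : U} (hg : g ∈ T.N3) (hh : h ∈ T.N3) : g * h * g⁻¹ * h⁻¹ ∈ T.Y := by
  rw [mem_Y hK, comm_N3 hK T hg hh]
  exact ⟨rfl, rfl, rfl, rfl, rfl, rfl, rfl, rfl, rfl⟩

theorem comm_A37_V {g h : U} (hg : g ∈ T.A37) (hh : h ∈ T.N3) : g * h * g⁻¹ * h⁻¹ ∈ T.V := by
  rw [mem_V hK, comm_N3 hK T (A37_le_N3 hK T hg) hh]
  rw [mem_A37 hK] at hg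
  obtain ⟨c1, c2, c3, c4, c5, c6, c7⟩ := hg
  refine ⟨rfl, rfl, rfl, rfl, rfl, ?_, rfl, rfl, rfl, rfl⟩
  simp only [cmm, c1, c2, c3, c4, c5, c6, c7, zero_mul, mul_zero, add_zero]

theorem comm_V_A37 {g h : U} (hg : g ∈ T.N3) (hh : h ∈ T.A37) : g * h * g⁻¹ * h⁻¹ ∈ T.V := by
  rw [mem_V hK, comm_N3 hK T hg (A37_le_N3 hK T hh)]
  rw [mem_A37 hK] at hh
  obtain ⟨c1, c2, c3, c4, c5, c6, c7⟩ := hh
  refine ⟨rfl, rfl, rfl, rfl, rfl, ?_, rfl, rfl, rfl, rfl⟩
  simp only [cmm, c1, c2, c3, c4, c5, c6, c7, zero_mul, mul_zero, add_zero]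

theorem Y_central {g h : U} (hg : g ∈ T.Y) (hh : h ∈ T.N3) : g * h = h * g := by
  have h1 : g * h * g⁻¹ * h⁻¹ = 1 := by
    refine co_injective T ?_
    rw [comm_N3 hK T (Y_le_N3 hK T hg) hh, co_one]
    rw [mem_Y hK] at hg
    obtain ⟨c1, c2, c3, c4, c5, c6, c7, c8, c9⟩ := hg
    ext <;> simp only [cmm, c1, c2, c3, c4, c5, c6, c7, c8, c9, zero_mul, mul_zero, add_zero, map_zero]
  have h2 : g * h = g * h * g⁻¹ * h⁻¹ * (h * g) := by group
  rw [h2, h1, one_mul]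

theorem A37_comm {g h : U} (hg : g ∈ T.A37) (hh : h ∈ T.A37) : g * h = h * g := by
  have h1 : g * h * g⁻¹ * h⁻¹ = 1 := by
    refine co_injective T ?_
    rw [comm_N3 hK T (A37_le_N3 hK T hg) (A37_le_N3 hK T hh), co_one]
    rw [mem_A37 hK] at hg hh
    obtain ⟨c1, c2, c3, c4, c5, c6, c7⟩ := hg
    obtain ⟨d1, d2, d3, d4, d5, d6, d7⟩ := hh
    ext <;> simp only [cmm, c1, c2, c3, c4, c5, c6, c7, d1, d2, d3, d4, d5, d6, d7, zero_mul, mul_zero, add_zero, map_zero]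
  have h2 : g * h = g * h * g⁻¹ * h⁻¹ * (h * g) := by group
  rw [h2, h1, one_mul]

theorem mul_N3 {g h : U} (hg : g ∈ T.N3) (hh : h ∈ T.N3) :
    (co T (g * h)).b2 = (co T g).b2 + (co T h).b2 ∧ (co T (g * h)).a3 = (co T g).a3 + (co T h).a3 ∧
    (co T (g * h)).a4 = (co T g).a4 + (co T h).a4 ∧ (co T (g * h)).a6 = (co T g).a6 + (co T h).a6 ∧
    (co T (g * h)).a7 = (co T g).a7 + (co T h).a7 ∧ (co T (g * h)).b8 = (co T g).b8 + (co T h).b8 := by
  rw [mem_N3 hK] at hg hh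
  rw [co_mul hK]
  generalize co T g = c at hg ⊢
  generalize co T h = d at hh ⊢
  obtain ⟨c1, c2, c3⟩ := hg
  obtain ⟨d1, d2, d3⟩ := hh
  refine ⟨?_, ?_, ?_, ?_, ?_, ?_⟩
  · rw [mul_b2]; simp only [c1, c2, c3, d1, d2, d3, zero_mul, mul_zero, add_zero, zero_add, map_zero]
  · rw [mul_a3]; simp only [c1, c2, c3, d1, d2, d3, zero_mul, mul_zero, add_zero, zero_add, map_zero, ne_eq, OfNat.ofNat_ne_zero, not_false_eq_true, zero_pow]
  · rw [mul_a4]; simp only [c1, c2, c3, d1, d2, d3, zero_mul, mul_zero, add_zero, zero_add, map_zero]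
  · rw [mul_a6]; simp only [c1, c2, c3, d1, d2, d3, zero_mul, mul_zero, add_zero, zero_add, map_zero]
  · rw [mul_a7]; simp only [c1, c2, c3, d1, d2, d3, zero_mul, mul_zero, add_zero, zero_add, map_zero, ne_eq, OfNat.ofNat_ne_zero, not_false_eq_true, zero_pow]
  · rw [mul_b8]; simp only [c1, c2, c3, d1, d2, d3, zero_mul, mul_zero, add_zero, zero_add, map_zero]

/-- `r ↦ (z2, x4, x6, z8)` on a subgroup of `N3` -/
noncomputable def psi {R : Subgroup U} (hR : R ≤ T.N3) : R →* Multiplicative (K × K × K × K) where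
  toFun r := Multiplicative.ofAdd ((co T (r : U)).b2, (co T (r : U)).a4, (co T (r : U)).a6, (co T (r : U)).b8)
  map_one' := by
    rw [Subgroup.coe_one, co_one]
    rfl
  map_mul' r s := by
    obtain ⟨h1, h2, h3, h4, h5, h6⟩ := mul_N3 hK T (hR r.2) (hR s.2)
    rw [Subgroup.coe_mul, h1, h3, h4, h6]
    rfl

theorem card_hom {A B : Type*} [Group A] [Group B] (f : A →* B) : Nat.card A = Nat.card f.range * Nat.card f.ker := by
  rw [Subgroup.card_eq_card_quotient_mul_card_subgroup f.ker]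
  rw [Nat.card_congr (QuotientGroup.quotientKerEquivRange f).toEquiv]

theorem mem_ker_psi {R : Subgroup U} (hR : R ≤ T.N3) {r : R} : r ∈ (psi hK T hR).ker ↔ (r : U) ∈ T.A37 := by
  have h0 := (mem_N3 hK T).1 (hR r.2)
  rw [MonoidHom.mem_ker, mem_A37 hK]
  constructor
  · intro h
    have h1 : ((co T (r : U)).b2, (co T (r : U)).a4, (co T (r : U)).a6, (co T (r : U)).b8) = (0 : K × K × K × K) := h
    simp only [Prod.mk_eq_zero] at h1
    exact ⟨h0.1, h0.2.1, h1.1, h1.2.1, h1.2.2.1, h0.2.2, h1.2.2.2⟩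
  · rintro ⟨c1, c2, c3, c4, c5, c6, c7⟩
    change Multiplicative.ofAdd ((co T (r : U)).b2, (co T (r : U)).a4, (co T (r : U)).a6, (co T (r : U)).b8) = 1
    rw [c3, c4, c5, c7]
    rfl


/-- elements of `R ∩ A37` commuting with an element outside `A37`: at most `q⁴` -/
theorem card_le_four {R : Subgroup U} (hR : R ≤ T.N3) {y : U} (hy : y ∈ T.N3) (hyA : y ∉ T.A37)
    (hc : ∀ r ∈ R, r ∈ T.A37 → r * y = y * r) : Nat.card (psi hK T hR).ker ≤ (Nat.card K) ^ 4 := by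
  haveI := hK.fin
  have hcm : ∀ r ∈ R, r ∈ T.A37 → (co T r).a3 * (co T y).a6 + (co T r).a7 * (co T y).b2 = 0 ∧
      (co T r).a7 * (co T y).a4 + (co T r).a3 * (co T y).b8 = 0 := by
    intro r hr hrA
    have h1 : r * y * r⁻¹ * y⁻¹ = 1 := by rw [hc r hr hrA]; group
    have h2 := comm_N3 hK T (hR hr) hy
    rw [h1, co_one] at h2
    rw [mem_A37 hK] at hrA
    obtain ⟨c1, c2, c3, c4, c5, c6, c7⟩ := hrA
    have h4 := congrArg Cd.b4 h2
    have h6 := congrArg Cd.b6 h2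
    simp only [cmm, c1, c2, c3, c4, c5, c6, c7, zero_mul, mul_zero, add_zero, zero_add, map_zero] at h4 h6
    constructor
    · linear_combination -h4
    · linear_combination -h6
  have hy0 := (mem_N3 hK T).1 hy
  have hyn : (co T y).b2 ≠ 0 ∨ (co T y).a4 ≠ 0 ∨ (co T y).a6 ≠ 0 ∨ (co T y).b8 ≠ 0 := by
    by_contra hcon
    push Not at hcon
    exact hyA ((mem_A37 hK T).2 ⟨hy0.1, hy0.2.1, hcon.1, hcon.2.1, hcon.2.2.1, hy0.2.2, hcon.2.2.2⟩)
  have hext : ∀ r s : R, (r : U) ∈ T.A37 → (s : U) ∈ T.A37 → (co T (r : U)).a3 = (co T (s : U)).a3 →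
      (co T (r : U)).a7 = (co T (s : U)).a7 → (co T (r : U)).b4 = (co T (s : U)).b4 →
      (co T (r : U)).a5 = (co T (s : U)).a5 → (co T (r : U)).b6 = (co T (s : U)).b6 → r = s := by
    intro r s hr hs e3 e7 e4 e5 e6
    rw [mem_A37 hK] at hr hs
    obtain ⟨c1, c2, c3, c4, c5, c6, c7⟩ := hr
    obtain ⟨d1, d2, d3, d4, d5, d6, d7⟩ := hs
    refine Subtype.ext (co_injective T ?_)
    ext
    · rw [c1, d1]
    · rw [c2, d2]
    · rw [c3, d3]
    · exact e3
    · rw [c4, d4]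
    · exact e4
    · exact e5
    · rw [c5, d5]
    · exact e6
    · exact e7
    · rw [c6, d6]
    · rw [c7, d7]
  have h4 : (Nat.card K) ^ 4 = Nat.card (K × K × K × K) := by
    rw [Nat.card_prod, Nat.card_prod, Nat.card_prod]; ring
  rw [h4]
  by_cases h3 : (co T y).a6 ≠ 0 ∨ (co T y).b8 ≠ 0
  · refine Nat.card_le_card_of_injective (fun r : (psi hK T hR).ker =>
      ((co T ((r : R) : U)).a7, (co T ((r : R) : U)).b4, (co T ((r : R) : U)).a5, (co T ((r : R) : U)).b6)) ?_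
    rintro ⟨r, hr⟩ ⟨s, hs⟩ h
    rw [mem_ker_psi] at hr hs
    simp only [Prod.mk.injEq] at h
    obtain ⟨e7, e4, e5, e6⟩ := h
    refine Subtype.ext (hext r s hr hs ?_ e7 e4 e5 e6)
    have h1 := hcm r r.2 hr
    have h2 := hcm s s.2 hs
    rw [e7] at h1
    rcases h3 with h3 | h3
    · refine mul_right_cancel₀ h3 ?_
      linear_combination h1.1 - h2.1
    · refine mul_right_cancel₀ h3 ?_
      linear_combination h1.2 - h2.2
  · push Not at h3
    have h3' : (co T y).b2 ≠ 0 ∨ (co T y).a4 ≠ 0 := by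
      rcases hyn with h | h | h | h
      · exact Or.inl h
      · exact Or.inr h
      · exact absurd h3.1 h
      · exact absurd h3.2 h
    refine Nat.card_le_card_of_injective (fun r : (psi hK T hR).ker =>
      ((co T ((r : R) : U)).a3, (co T ((r : R) : U)).b4, (co T ((r : R) : U)).a5, (co T ((r : R) : U)).b6)) ?_
    rintro ⟨r, hr⟩ ⟨s, hs⟩ h
    rw [mem_ker_psi] at hr hs
    simp only [Prod.mk.injEq] at h
    obtain ⟨e3, e4, e5, e6⟩ := h
    refine Subtype.ext (hext r s hr hs e3 ?_ e4 e5 e6)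
    have h1 := hcm r r.2 hr
    have h2 := hcm s s.2 hs
    rw [e3] at h1
    rcases h3' with h3 | h3
    · refine mul_right_cancel₀ h3 ?_
      linear_combination h1.1 - h2.1
    · refine mul_right_cancel₀ h3 ?_
      linear_combination h1.2 - h2.2

/-- `|R ∩ A37| ≤ q³` if `R ∩ A37 ≤ Y` -/
theorem card_le_three {R : Subgroup U} (hR : R ≤ T.N3) (hc : ∀ r ∈ R, r ∈ T.A37 → r ∈ T.Y) :
    Nat.card (psi hK T hR).ker ≤ (Nat.card K) ^ 3 := by
  haveI := finite_U hK T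
  have h1 : Nat.card T.Y = (Nat.card K) ^ 3 := by rw [card_Y hK, hK.card]
  rw [← h1]
  refine Nat.card_le_card_of_injective (fun r : (psi hK T hR).ker =>
    (⟨((r : R) : U), hc _ (r : R).2 ((mem_ker_psi hK T hR).1 r.2)⟩ : T.Y)) ?_
  intro r s h
  exact Subtype.ext (Subtype.ext (congrArg (fun z : T.Y => (z : U)) h))

/-- the image in `K⁴` of a group commuting with an element outside `A37` has order at most `q³` -/
theorem card_range_le {R : Subgroup U} (hR : R ≤ T.N3) {y : U} (hy : y ∈ T.N3) (hyA : y ∉ T.A37)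
    (hc : ∀ r ∈ R, r * y = y * r) : Nat.card (psi hK T hR).range ≤ (Nat.card K) ^ 3 := by
  haveI := hK.fin
  have hcm : ∀ r ∈ R, (co T r).a6 * (co T y).a4 + (co T y).a6 * (co T r).a4 + (co T r).b8 * (co T y).b2
      + (co T y).b8 * (co T r).b2 = 0 := by
    intro r hr
    have h1 : r * y * r⁻¹ * y⁻¹ = 1 := by rw [hc r hr]; group
    have h2 := comm_N3 hK T (hR hr) hy
    rw [h1, co_one] at h2
    exact (congrArg Cd.a5 h2).symm
  have hy0 := (mem_N3 hK T).1 hy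
  have hyn : (co T y).b2 ≠ 0 ∨ (co T y).a4 ≠ 0 ∨ (co T y).a6 ≠ 0 ∨ (co T y).b8 ≠ 0 := by
    by_contra hcon
    push Not at hcon
    exact hyA ((mem_A37 hK T).2 ⟨hy0.1, hy0.2.1, hcon.1, hcon.2.1, hcon.2.2.1, hy0.2.2, hcon.2.2.2⟩)
  have h4 : (Nat.card K) ^ 3 = Nat.card (K × K × K) := by
    rw [Nat.card_prod, Nat.card_prod]; ring
  have hmem : ∀ x : Multiplicative (K × K × K × K), x ∈ (psi hK T hR).range →
      x.toAdd.2.2.1 * (co T y).a4 + (co T y).a6 * x.toAdd.2.1 + x.toAdd.2.2.2 * (co T y).b2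
        + (co T y).b8 * x.toAdd.1 = 0 := by
    rintro _ ⟨r, rfl⟩
    exact hcm r r.2
  have hex : ∀ x z : (psi hK T hR).range, x.1.toAdd.1 = z.1.toAdd.1 → x.1.toAdd.2.1 = z.1.toAdd.2.1 →
      x.1.toAdd.2.2.1 = z.1.toAdd.2.2.1 → x.1.toAdd.2.2.2 = z.1.toAdd.2.2.2 → x = z := by
    intro x z e1 e2 e3 e4
    refine Subtype.ext (Multiplicative.toAdd.injective ?_)
    exact Prod.ext e1 (Prod.ext e2 (Prod.ext e3 e4))
  rw [h4]
  rcases hyn with h | h | h | h
  · refine Nat.card_le_card_of_injective (fun x : (psi hK T hR).range =>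
      (x.1.toAdd.1, x.1.toAdd.2.1, x.1.toAdd.2.2.1)) ?_
    intro x z e
    simp only [Prod.mk.injEq] at e
    obtain ⟨e1, e2, e3⟩ := e
    refine hex x z e1 e2 e3 (mul_right_cancel₀ h ?_)
    have h1 := hmem x.1 x.2
    have h2 := hmem z.1 z.2
    rw [e1, e2, e3] at h1
    linear_combination h1 - h2
  · refine Nat.card_le_card_of_injective (fun x : (psi hK T hR).range =>
      (x.1.toAdd.1, x.1.toAdd.2.1, x.1.toAdd.2.2.2)) ?_
    intro x z e
    simp only [Prod.mk.injEq] at e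
    obtain ⟨e1, e2, e3⟩ := e
    refine hex x z e1 e2 (mul_right_cancel₀ h ?_) e3
    have h1 := hmem x.1 x.2
    have h2 := hmem z.1 z.2
    rw [e1, e2, e3] at h1
    linear_combination h1 - h2
  · refine Nat.card_le_card_of_injective (fun x : (psi hK T hR).range =>
      (x.1.toAdd.1, x.1.toAdd.2.2.1, x.1.toAdd.2.2.2)) ?_
    intro x z e
    simp only [Prod.mk.injEq] at e
    obtain ⟨e1, e2, e3⟩ := e
    refine hex x z e1 (mul_left_cancel₀ h ?_) e2 e3
    have h1 := hmem x.1 x.2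
    have h2 := hmem z.1 z.2
    rw [e1, e2, e3] at h1
    linear_combination h1 - h2
  · refine Nat.card_le_card_of_injective (fun x : (psi hK T hR).range =>
      (x.1.toAdd.2.1, x.1.toAdd.2.2.1, x.1.toAdd.2.2.2)) ?_
    intro x z e
    simp only [Prod.mk.injEq] at e
    obtain ⟨e1, e2, e3⟩ := e
    refine hex x z (mul_left_cancel₀ h ?_) e1 e2 e3
    have h1 := hmem x.1 x.2
    have h2 := hmem z.1 z.2
    rw [e1, e2, e3] at h1
    linear_combination h1 - h2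

/-- the commutators with an element of `A37 ∖ Y`: `|R̄| ≤ |V ∩ Φ| q²` -/
theorem card_range_le_mul {R P : Subgroup U} (hR : R ≤ T.N3) {a : U} (ha : a ∈ T.A37) (haY : a ∉ T.Y)
    (hP : ∀ r ∈ R, r * a * r⁻¹ * a⁻¹ ∈ P) :
    Nat.card (psi hK T hR).range ≤ Nat.card (P ⊓ T.V : Subgroup U) * (Nat.card K) ^ 2 := by
  haveI := hK.fin
  haveI := finite_U hK T
  have ha0 := (mem_A37 hK T).1 ha
  have han : (co T a).a3 ≠ 0 ∨ (co T a).a7 ≠ 0 := by
    by_contra hcon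
    push Not at hcon
    obtain ⟨c1, c2, c3, c4, c5, c6, c7⟩ := ha0
    exact haY ((mem_Y hK T).2 ⟨c1, c2, c3, hcon.1, c4, c5, hcon.2, c6, c7⟩)
  -- a section of `psi`
  choose f hf using fun x : (psi hK T hR).range => x.2
  have hfm : ∀ x, (f x : U) * a * (f x : U)⁻¹ * a⁻¹ ∈ P ⊓ T.V := fun x =>
    ⟨hP _ (f x).2, comm_V_A37 hK T (hR (f x).2) ha⟩
  have hf1 : ∀ x, (co T (f x : U)).b2 = x.1.toAdd.1 := fun x => congrArg (fun z => z.toAdd.1) (hf x)
  have hf2 : ∀ x, (co T (f x : U)).a4 = x.1.toAdd.2.1 := fun x => congrArg (fun z => z.toAdd.2.1) (hf x)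
  have hf3 : ∀ x, (co T (f x : U)).a6 = x.1.toAdd.2.2.1 := fun x => congrArg (fun z => z.toAdd.2.2.1) (hf x)
  have hf4 : ∀ x, (co T (f x : U)).b8 = x.1.toAdd.2.2.2 := fun x => congrArg (fun z => z.toAdd.2.2.2) (hf x)
  have hkey : ∀ x z, (f x : U) * a * (f x : U)⁻¹ * a⁻¹ = (f z : U) * a * (f z : U)⁻¹ * a⁻¹ →
      x.1.toAdd.2.2.1 * (co T a).a3 + x.1.toAdd.1 * (co T a).a7 = z.1.toAdd.2.2.1 * (co T a).a3 + z.1.toAdd.1 * (co T a).a7 ∧
      x.1.toAdd.2.2.2 * (co T a).a3 + x.1.toAdd.2.1 * (co T a).a7 = z.1.toAdd.2.2.2 * (co T a).a3 + z.1.toAdd.2.1 * (co T a).a7 := by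
    intro x z h
    have h1 := congrArg (co T) h
    rw [comm_N3 hK T (hR (f x).2) (A37_le_N3 hK T ha), comm_N3 hK T (hR (f z).2) (A37_le_N3 hK T ha)] at h1
    obtain ⟨c1, c2, c3, c4, c5, c6, c7⟩ := ha0
    have h4 := congrArg Cd.b4 h1
    have h6 := congrArg Cd.b6 h1
    simp only [cmm, c1, c2, c3, c4, c5, c6, c7, zero_mul, mul_zero, add_zero, zero_add, map_zero, hf1, hf2, hf3, hf4] at h4 h6
    constructor
    · linear_combination h4
    · linear_combination h6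
  have hex : ∀ x z : (psi hK T hR).range, x.1.toAdd.1 = z.1.toAdd.1 → x.1.toAdd.2.1 = z.1.toAdd.2.1 →
      x.1.toAdd.2.2.1 = z.1.toAdd.2.2.1 → x.1.toAdd.2.2.2 = z.1.toAdd.2.2.2 → x = z := by
    intro x z e1 e2 e3 e4
    refine Subtype.ext (Multiplicative.toAdd.injective ?_)
    exact Prod.ext e1 (Prod.ext e2 (Prod.ext e3 e4))
  have h4 : Nat.card (P ⊓ T.V : Subgroup U) * (Nat.card K) ^ 2 = Nat.card ((P ⊓ T.V : Subgroup U) × (K × K)) := by
    rw [Nat.card_prod, Nat.card_prod]; ring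
  rw [h4]
  rcases han with h | h
  · refine Nat.card_le_card_of_injective (fun x : (psi hK T hR).range =>
      ((⟨_, hfm x⟩ : (P ⊓ T.V : Subgroup U)), (x.1.toAdd.1, x.1.toAdd.2.1))) ?_
    intro x z e
    simp only [Prod.mk.injEq, Subtype.mk.injEq] at e
    obtain ⟨e0, e1, e2⟩ := e
    obtain ⟨k1, k2⟩ := hkey x z e0
    rw [e1] at k1
    rw [e2] at k2
    exact hex x z e1 e2 (mul_right_cancel₀ h (add_right_cancel k1)) (mul_right_cancel₀ h (add_right_cancel k2))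
  · refine Nat.card_le_card_of_injective (fun x : (psi hK T hR).range =>
      ((⟨_, hfm x⟩ : (P ⊓ T.V : Subgroup U)), (x.1.toAdd.2.2.1, x.1.toAdd.2.2.2))) ?_
    intro x z e
    simp only [Prod.mk.injEq, Subtype.mk.injEq] at e
    obtain ⟨e0, e1, e2⟩ := e
    obtain ⟨k1, k2⟩ := hkey x z e0
    rw [e1] at k1
    rw [e2] at k2
    exact hex x z (mul_right_cancel₀ h (add_left_cancel k1)) (mul_right_cancel₀ h (add_left_cancel k2)) e1 e2

/-- `N3` normalizes every `R` with `Y ≤ R ≤ N3` -/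
theorem N3_le_norm {R : Subgroup U} (hYR : T.Y ≤ R) (hR : R ≤ T.N3) : T.N3 ≤ normalizerIn ⊤ R := by
  have key : ∀ r ∈ T.N3, ∀ x ∈ R, r * x * r⁻¹ ∈ R := by
    intro r hr x hx
    have h1 := R.mul_mem (hYR (comm_N3_Y hK T hr (hR hx))) hx
    rwa [inv_mul_cancel_right] at h1
  intro r hr
  refine ⟨trivial, ?_⟩
  show r ∈ Subgroup.normalizer (R : Set U)
  rw [Subgroup.mem_normalizer_iff]
  intro x
  refine ⟨key r hr x, fun hx => ?_⟩
  have h1 := key r⁻¹ (T.N3.inv_mem hr) _ hx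
  have h2 : r⁻¹ * (r * x * r⁻¹) * r⁻¹⁻¹ = x := by group
  rwa [h2] at h1

theorem card_mul_relIndex {A B : Subgroup U} (h : A ≤ B) : Nat.card A * A.relIndex B = Nat.card B := by
  have h1 := Subgroup.card_mul_index (A.subgroupOf B)
  rwa [Nat.card_congr (Subgroup.subgroupOfEquivOfLe h).toEquiv] at h1

/-- (ESS3), part (B) -/
theorem essB (hphi : StPhi.{v}) (hp2 : StP2.{v}) (hhull : StHull.{v})
    {R : Subgroup U} {Γ : Subgroup (MulAut R)} (hE : Ess (⊤ : Subgroup U) R 2 Γ) (hYR : T.Y ≤ R) (hR : R ≤ T.N3) :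
    T.A37 ≤ R := by
  by_contra hA
  haveI := hK.fin
  haveI := finite_U hK T
  have hRp : IsPGroup 2 R := by
    have h1 : IsPGroup 2 (⊤ : Subgroup U) := hE.pgr
    exact h1.to_le le_top
  obtain ⟨hPE, hcomE, -, -, -, -⟩ := hphi R 2 hE.pp inferInstance hRp
  have hVR : T.V ≤ R := (V_le_Y hK T).trans hYR
  have hNn := N3_le_norm hK T hYR hR
  have hcomN : Com T.N3 R T.Y := fun a ha r hr => comm_N3_Y hK T ha (hR hr)
  have hcomA : Com T.A37 R T.V := fun a ha r hr => comm_A37_V hK T ha (hR hr)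
  -- the element `y`
  obtain ⟨γ, hγ, y0, hy0, a, ha, hay⟩ := hhull hE T.A37 T.V le_top hVR hcomA hA
  set y : U := ((γ y0 : R) : U) with hy
  have hyR : y ∈ R := (γ y0).2
  have hyc : ∀ r ∈ R, r * y = y * r := by
    intro r hr
    have h1 : γ.symm ⟨r, hr⟩ * y0 = y0 * γ.symm ⟨r, hr⟩ :=
      Subtype.ext (Y_central hK T (V_le_Y hK T hy0) (hR (γ.symm ⟨r, hr⟩).2)).symm
    have h2 := congrArg (fun z => ((γ z : R) : U)) h1
    simp only [map_mul, MulEquiv.apply_symm_apply, Subgroup.coe_mul] at h2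
    exact h2
  have hyA : y ∉ T.A37 := by
    intro h
    apply hay
    have h1 := A37_comm hK T ha h
    have h2 : a * y * a⁻¹ * y⁻¹ = 1 := by rw [h1]; group
    rw [h2]
    exact one_mem _
  have hyN := hR hyR
  -- the inequality
  have hin := hp2 hE T.N3 T.A37 T.Y T.V (Phi R ⊓ T.Y) (Phi R ⊓ T.V) hNn ((A37_le_N3 hK T).trans hNn) hA hYR hVR hcomN
    hcomA inf_le_left inf_le_left
  have hq : 2 ≤ Nat.card K := by
    rw [hK.card, pow_succ]
    have : 0 < 2 ^ (2 * m) := by positivity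
    omega
  have c1 : Nat.card R * R.relIndex T.N3 = (Nat.card K) ^ 9 := by
    rw [card_mul_relIndex hK hR, card_N3 hK, hK.card]
  have c2 : Nat.card (Phi R ⊓ T.Y : Subgroup U) * (Phi R ⊓ T.Y).relIndex T.Y = (Nat.card K) ^ 3 := by
    rw [card_mul_relIndex hK inf_le_right, card_Y hK, hK.card]
  have c3 : Nat.card (Phi R ⊓ T.V : Subgroup U) * (Phi R ⊓ T.V).relIndex T.V = (Nat.card K) ^ 2 := by
    rw [card_mul_relIndex hK inf_le_right, card_V hK, hK.card]
  have c4 : Nat.card (Phi R ⊓ T.V : Subgroup U) ≤ Nat.card (Phi R ⊓ T.Y : Subgroup U) :=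
    Subgroup.card_le_of_le (inf_le_inf_left _ (V_le_Y hK T))
  have c5 := card_hom hK (psi hK T hR)
  have c0 : 0 < Nat.card (Phi R ⊓ T.V : Subgroup U) := Nat.card_pos
  have c6 : Nat.card R ≤ Nat.card (Phi R ⊓ T.V : Subgroup U) * (Nat.card K) ^ 6 := by
    rw [c5]
    by_cases hex : ∃ a ∈ R, a ∈ T.A37 ∧ a ∉ T.Y
    · obtain ⟨b, hb, hbA, hbY⟩ := hex
      have e1 := card_le_four hK T hR hyN hyA (fun r hr _ => hyc r hr)
      have e2 := card_range_le_mul hK T (P := Phi R) hR hbA hbY (fun r hr => hcomE r hr b hb)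
      calc _ ≤ (Nat.card (Phi R ⊓ T.V : Subgroup U) * (Nat.card K) ^ 2) * (Nat.card K) ^ 4 := Nat.mul_le_mul e2 e1
        _ = _ := by ring
    · push Not at hex
      have e1 := card_le_three hK T hR hex
      have e2 := card_range_le hK T hR hyN hyA hyc
      calc _ ≤ (Nat.card K) ^ 3 * (Nat.card K) ^ 3 := Nat.mul_le_mul e2 e1
        _ = 1 * (Nat.card K) ^ 6 := by ring
        _ ≤ _ := Nat.mul_le_mul_right _ c0
  generalize Nat.card K = q at *
  generalize (Phi R ⊓ T.V).relIndex T.V = k at *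
  generalize (Phi R ⊓ T.Y).relIndex T.Y = j at *
  generalize R.relIndex T.N3 = i at *
  generalize Nat.card (Phi R ⊓ T.V : Subgroup U) = f at *
  generalize Nat.card (Phi R ⊓ T.Y : Subgroup U) = g at *
  generalize Nat.card R = r at *
  have h1 : q ^ 18 * f ^ 2 ≤ q ^ 17 * f ^ 2 :=
    calc q ^ 18 * f ^ 2 = (q ^ 9) ^ 2 * (f * f) := by ring
      _ ≤ (q ^ 9) ^ 2 * (g * f) := Nat.mul_le_mul_left _ (Nat.mul_le_mul_right _ c4)
      _ = (r * i) ^ 2 * (g * f) := by rw [c1]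
      _ = i ^ 2 * (r ^ 2 * (g * f)) := by ring
      _ ≤ (j * k) * (r ^ 2 * (g * f)) := Nat.mul_le_mul_right _ hin
      _ = (g * j) * (f * k) * r ^ 2 := by ring
      _ = q ^ 3 * q ^ 2 * r ^ 2 := by rw [c2, c3]
      _ ≤ q ^ 3 * q ^ 2 * (f * q ^ 6) ^ 2 := Nat.mul_le_mul_left _ (Nat.pow_le_pow_left c6 2)
      _ = q ^ 17 * f ^ 2 := by ring
  have h2 : q ^ 18 ≤ q ^ 17 := le_of_mul_le_mul_right h1 (by positivity)
  have h3 : q ^ 17 < q ^ 18 := Nat.pow_lt_pow_right (by omega) (by norm_num)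
  omega

end

end Cfsg.Agent.H587.TF
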